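import Groth.Agent.RpushSumLib.Sections
import Groth.Agent.BCDLib.Basic

/-!
# Derived direct images of finite cohomological dimension preserve direct sums
-/

set_option autoImplicit false
set_option backward.isDefEq.respectTransparency false
set_option backward.isDefEq.respectTransparency.types false
set_option linter.style.haveILetI false
set_option linter.unusedSectionVars false
set_option maxHeartbeats 1000000
set_option synthInstance.maxHeartbeats 400000

universe u

open CategoryTheory CategoryTheory.Limits AlgebraicGeometry Opposite Pretriangulated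
open Groth.Agent.SpSeqLib Groth.Agent.BCDLib

attribute [local instance] HasDerivedCategory.standard

noncomputable section

namespace Groth.Agent.RpushSumLib

variable {X S : Scheme.{u}} (f : X ⟶ S)

/-- Every etale scheme is covered by affine ones. -/
theorem exists_affine_cover (U : S.Etale) : ∃ (κ : Type u) (V : κ → S.Etale) (g : ∀ k, V k ⟶ U),
    (∀ k, IsAffine (V k).left) ∧ Sieve.ofArrows V g ∈ S.smallEtaleTopology U := by
  haveI : AlgebraicGeometry.Etale U.hom := U.prop
  let 𝒰 := U.left.affineCover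
  refine ⟨𝒰.I₀, fun i => Scheme.Etale.mk (𝒰.f i ≫ U.hom),
    fun i => MorphismProperty.Over.homMk (𝒰.f i) rfl, fun i => inferInstanceAs (IsAffine (𝒰.X i)), ?_⟩
  exact (Scheme.ofArrows_mem_smallEtaleTopology_iff
    (fun i => (MorphismProperty.Over.homMk (𝒰.f i) rfl : Scheme.Etale.mk (𝒰.f i ≫ U.hom) ⟶ U))).2
    𝒰.iUnion_range

/-- A morphism of sheaves bijective on sections over affine etale schemes is an isomorphism. -/
theorem isIso_of_affine {F G : EtCoh.Ab S} (φ : F ⟶ G)
    (h : ∀ V : S.Etale, IsAffine V.left → IsIso ((secF V).map φ)) : IsIso φ := by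
  refine (Sheaf.isLocallyBijective_iff_isIso φ).1 ⟨⟨fun {U} x y hxy => ?_⟩, ⟨fun {U} s => ?_⟩⟩
  · obtain ⟨κ, V, g, hV, hcov⟩ := exists_affine_cover U.unop
    refine GrothendieckTopology.superset_covering _ ?_ hcov
    refine (Sieve.generate_le_iff _ _).2 ?_
    rintro _ _ ⟨k⟩
    haveI := h (V k) (hV k)
    show F.obj.map (g k).op x = F.obj.map (g k).op y
    refine (ConcreteCategory.bijective_of_isIso ((secF (V k)).map φ)).1 ?_
    show φ.hom.app _ (F.obj.map (g k).op x) = φ.hom.app _ (F.obj.map (g k).op y)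
    rw [NatTrans.naturality_apply φ.hom, NatTrans.naturality_apply φ.hom]
    exact congrArg _ hxy
  · obtain ⟨κ, V, g, hV, hcov⟩ := exists_affine_cover U
    refine GrothendieckTopology.superset_covering _ ?_ hcov
    refine (Sieve.generate_le_iff _ _).2 ?_
    rintro _ _ ⟨k⟩
    haveI := h (V k) (hV k)
    exact (ConcreteCategory.bijective_of_isIso ((secF (V k)).map φ)).2 _

theorem qcqs_bc [QuasiCompact f] [QuasiSeparated f] (V : S.Etale) (hV : IsAffine V.left) :
    CompactSpace ((EtCoh.bc f).obj V).left ∧ QuasiSeparatedSpace ((EtCoh.bc f).obj V).left := by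
  haveI := hV
  haveI : IsAffine ((𝟭 Scheme.{u}).obj V.left) := hV
  exact ⟨QuasiCompact.compactSpace_of_compactSpace (pullback.fst V.hom f),
    quasiSeparatedSpace_of_quasiSeparated (pullback.fst V.hom f)⟩

/-- Direct image along a qcqs morphism preserves direct sums. -/
theorem preservesCoproducts_push [QuasiCompact f] [QuasiSeparated f] (ι : Type (u + 1)) :
    PreservesColimitsOfShape (Discrete ι) (EtCoh.push f) := by
  refine ⟨fun {K} => ?_⟩
  suffices IsIso (colimit.post K (EtCoh.push f)) from preservesColimit_of_isIso_post _ _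
  refine isIso_of_affine _ fun V hV => ?_
  haveI := hV
  haveI : CompactSpace V.left := inferInstanceAs (CompactSpace V.left)
  haveI : QuasiSeparatedSpace V.left := inferInstance
  haveI := (qcqs_bc f V hV).1
  haveI := (qcqs_bc f V hV).2
  haveI := preservesCoproducts_secF ι V
  haveI : PreservesColimitsOfShape (Discrete ι) (EtCoh.push f ⋙ secF V) :=
    preservesCoproducts_secF ι ((EtCoh.bc f).obj V)
  let h₁ := isColimitOfPreserves (secF V) (colimit.isColimit (K ⋙ EtCoh.push f))
  let h₂ := isColimitOfPreserves (EtCoh.push f ⋙ secF V) (colimit.isColimit K)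
  have he : (secF V).map (colimit.post K (EtCoh.push f)) = (h₁.coconePointUniqueUpToIso h₂).hom :=
    h₁.hom_ext fun j => by
      refine Eq.trans ?_ (h₁.comp_coconePointUniqueUpToIso_hom h₂ j).symm
      simp only [Functor.mapCocone_ι_app, colimit.cocone_ι]
      rw [← Functor.map_comp, colimit.ι_post]
      rfl
  rw [he]
  infer_instance

/-- If sections over affines of a complex are exact, so is the complex. -/
theorem exactAt_of_secF (K : CochainComplex (EtCoh.Ab S) ℤ) (m : ℤ)
    (h : ∀ V : S.Etale, IsAffine V.left →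
      (((secF V).mapHomologicalComplex (ComplexShape.up ℤ)).obj K).ExactAt m) : K.ExactAt m := by
  obtain ⟨p, rfl⟩ : ∃ p, m = p + 1 := ⟨m - 1, by omega⟩
  haveI : Sheaf.IsLocallySurjective (K.toCycles p (p + 1)) := by
    refine ⟨fun {U} z => ?_⟩
    obtain ⟨κ, V, g, hV, hcov⟩ := exists_affine_cover U
    refine GrothendieckTopology.superset_covering _ ?_ hcov
    refine (Sieve.generate_le_iff _ _).2 ?_
    rintro _ _ ⟨k⟩
    let zk := (K.cycles (p + 1)).obj.map (g k).op z
    have he := h (V k) (hV k)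
    rw [HomologicalComplex.exactAt_iff' _ p (p + 1) (p + 1 + 1) (by simp) (by simp),
      ShortComplex.ab_exact_iff] at he
    obtain ⟨w, hw⟩ := he ((K.iCycles (p + 1)).hom.app (op (V k)) zk) (by
      show (K.iCycles (p + 1) ≫ K.d (p + 1) (p + 1 + 1)).hom.app (op (V k)) zk = 0
      rw [K.iCycles_d]
      rfl)
    refine ⟨w, ?_⟩
    have hinj : Function.Injective ((K.iCycles (p + 1)).hom.app (op (V k))) := by
      haveI : Mono ((K.iCycles (p + 1)).hom.app (op (V k))) :=
        (secF (V k)).map_mono (K.iCycles (p + 1))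
      exact (AddCommGrpCat.mono_iff_injective _).1 ‹_›
    refine hinj ?_
    refine Eq.trans ?_ hw
    exact congrArg (fun a : K.X p ⟶ K.X (p + 1) => a.hom.app (op (V k)) w) (K.toCycles_i p (p + 1))
  haveI : Epi (K.toCycles p (p + 1)) :=
    (Sheaf.isLocallySurjective_iff_epi' AddCommGrpCat.{u + 1} _).1 inferInstance
  rw [HomologicalComplex.exactAt_iff_isZero_homology, IsZero.iff_id_eq_zero,
    ← cancel_epi (K.homologyπ (p + 1)), ← cancel_epi (K.toCycles p (p + 1))]
  simp

/-- Acyclic for sections over every `f⁻¹ V` with `V` affine. -/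
def PushAcyc (F : EtCoh.Ab X) : Prop :=
  ∀ V : S.Etale, IsAffine V.left → IsAcyclicFor (secF ((EtCoh.bc f).obj V)) F

variable [QuasiCompact f] [QuasiSeparated f]
  (hX : ∀ U : X.Etale, CompactSpace ↥(U.left) → QuasiSeparatedSpace ↥(U.left) →
    ∃ d : ℕ, ∀ (F : EtCoh.Ab U.left) (q : ℕ), d < q → Subsingleton (EtCoh.H U.left F q))

include hX in
/-- Direct image of an exact complex of acyclic sheaves is exact. -/
theorem exactAt_push (L : CochainComplex (EtCoh.Ab X) ℤ) (hL : ∀ m, PushAcyc f (L.X m))
    (hexact : ∀ m, L.ExactAt m) (m : ℤ) :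
    (((EtCoh.push f).mapHomologicalComplex (ComplexShape.up ℤ)).obj L).ExactAt m :=
  exactAt_of_secF _ m fun V hV => exactAt_secF ((EtCoh.bc f).obj V)
    (hX _ (qcqs_bc f V hV).1 (qcqs_bc f V hV).2) L (fun n => hL n V hV) hexact m

include hX in
/-- `Rf_*` is computed by complexes of acyclic sheaves. -/
theorem isIso_unitR_of_pushAcyc [DCoh.HasRpushEt X f] (L : CochainComplex (EtCoh.Ab X) ℤ)
    (hL : ∀ m, PushAcyc f (L.X m)) :
    IsIso ((unitR f).app ((HomotopyCategory.quotient _ (ComplexShape.up ℤ)).obj L)) := by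
  haveI : IsGrothendieckAbelian.{u + 1} (EtCoh.Ab X) := inferInstance
  obtain ⟨I, s, hI, hs, -, hinj⟩ := KInj.exists_isKInjective_resolution L
  haveI := hI
  haveI := hs
  haveI := hinj
  let q := HomotopyCategory.quotient (EtCoh.Ab X) (ComplexShape.up ℤ)
  haveI := isIso_unitR f I
  haveI : IsIso (DerivedCategory.Qh.map (q.map s)) := by
    rw [DerivedCategory.isIso_Qh_map_iff, HomotopyCategory.quotient_map_mem_quasiIso_iff,
      HomologicalComplex.mem_quasiIso_iff]
    exact hs
  haveI h1 : IsIso ((DCoh.pushEtKh X f).map (q.map s)) := by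
    show IsIso (DerivedCategory.Qh.map ((HomotopyCategory.quotient (EtCoh.Ab S) (ComplexShape.up ℤ)).map
      (((EtCoh.push f).mapHomologicalComplex _).map s)))
    rw [DerivedCategory.isIso_Qh_map_iff, HomotopyCategory.quasiIso_eq_trW_subcategoryAcyclic]
    refine ((HomotopyCategory.subcategoryAcyclic (EtCoh.Ab S)).trW_iff_of_distinguished _
      (HomotopyCategory.mappingCone_triangleh_distinguished (((EtCoh.push f).mapHomologicalComplex _).map s))).2 ?_
    show HomotopyCategory.subcategoryAcyclic (EtCoh.Ab S) ((HomotopyCategory.quotient _ (ComplexShape.up ℤ)).obj _)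
    rw [HomotopyCategory.quotient_obj_mem_subcategoryAcyclic_iff_acyclic]
    intro m
    refine HomologicalComplex.ExactAt.of_iso ?_
      (CochainComplex.mappingCone.mapHomologicalComplexIso s (EtCoh.push f))
    refine exactAt_push f hX _ (fun i V hV => ?_) (FilDLib.exactAt_mappingCone_of_quasiIso s) m
    exact isAcyclicFor_of_biprod _
      ((CochainComplex.mappingCone.inl s).v (i + 1) i (by omega)) ((CochainComplex.mappingCone.inr s).f i)
      ((CochainComplex.mappingCone.fst s).1.v i (i + 1) rfl) ((CochainComplex.mappingCone.snd s).v i i (add_zero i))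
      (CochainComplex.mappingCone.id_X s i (i + 1) rfl) (hL (i + 1) V hV)
      (isAcyclicFor_of_injective _ (I.X i))
  haveI : IsIso ((DerivedCategory.Qh ⋙ DCoh.RpushEt X f).map (q.map s)) :=
    inferInstanceAs (IsIso ((DCoh.RpushEt X f).map (DerivedCategory.Qh.map (q.map s))))
  have hn := (unitR f).naturality (q.map s)
  have h2 : (unitR f).app (q.obj L) = (DCoh.pushEtKh X f).map (q.map s) ≫ (unitR f).app (q.obj I) ≫
      inv ((DerivedCategory.Qh ⋙ DCoh.RpushEt X f).map (q.map s)) := by
    rw [← Category.assoc, hn, Category.assoc, IsIso.hom_inv_id, Category.comp_id]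
  rw [h2]
  infer_instance

include hX in
/-- `Rf_*` preserves direct sums. -/
theorem preservesCoproducts_RpushEt [DCoh.HasRpushEt X f] (ι : Type (u + 1)) :
    PreservesColimitsOfShape (Discrete ι) (DCoh.RpushEt X f) := by
  haveI : IsGrothendieckAbelian.{u + 1} (EtCoh.Ab X) := inferInstance
  haveI : IsGrothendieckAbelian.{u + 1} (EtCoh.Ab S) := inferInstance
  haveI := IsGrothendieckAbelian.hasColimits (EtCoh.Ab X)
  haveI := IsGrothendieckAbelian.hasColimits (EtCoh.Ab S)
  refine ⟨fun {K} => ?_⟩
  choose I hI hinj he using fun i : ι => exists_injective_model (K.obj ⟨i⟩)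
  let qX := HomotopyCategory.quotient (EtCoh.Ab X) (ComplexShape.up ℤ)
  let D : Discrete ι ⥤ CochainComplex (EtCoh.Ab X) ℤ := Discrete.functor I
  let e : D ⋙ (qX ⋙ DerivedCategory.Qh) ≅ K := Discrete.natIso fun i => (he i.as).some
  suffices PreservesColimit (D ⋙ (qX ⋙ DerivedCategory.Qh)) (DCoh.RpushEt X f) from
    preservesColimit_of_iso_diagram _ e
  haveI := preservesCoproducts_quotientQh (A := EtCoh.Ab X) ι (hresEt X)
  haveI := preservesCoproducts_quotientQh (A := EtCoh.Ab S) ι (hresEt S)
  haveI := preservesCoproducts_push f ι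
  refine preservesColimit_of_preserves_colimit_cocone
    (isColimitOfPreserves (qX ⋙ DerivedCategory.Qh) (colimit.isColimit D)) ?_
  let Ψ := (EtCoh.push f).mapHomologicalComplex (ComplexShape.up ℤ) ⋙
    HomotopyCategory.quotient (EtCoh.Ab S) (ComplexShape.up ℤ) ⋙ DerivedCategory.Qh
  haveI : PreservesColimitsOfShape (Discrete ι) Ψ := inferInstance
  let η : Ψ ⟶ (qX ⋙ DerivedCategory.Qh) ⋙ DCoh.RpushEt X f :=
    { app := fun L => (unitR f).app (qX.obj L)
      naturality := fun L M a => (unitR f).naturality (qX.map a) }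
  haveI hηI : ∀ i, IsIso (η.app (D.obj i)) := fun i => haveI := hI i.as; isIso_unitR f (I i.as)
  haveI hηc : IsIso (η.app (colimit D)) := by
    refine isIso_unitR_of_pushAcyc f hX _ fun m V hV => ?_
    haveI := (qcqs_bc f V hV).1
    haveI := (qcqs_bc f V hV).2
    let c : Cofan fun i => (I i).X m := Cofan.mk ((colimit D).X m) fun i => (colimit.ι D ⟨i⟩).f m
    have hc : IsColimit c := isColimitCofanMkObjOfIsColimit
      (HomologicalComplex.eval (EtCoh.Ab X) (ComplexShape.up ℤ) m) _ _
      (Cofan.IsColimit.mk (Cofan.mk (colimit D) fun i => colimit.ι D ⟨i⟩)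
        (fun s => colimit.desc D ⟨s.pt, Discrete.natTrans fun j => s.inj j.as⟩)
        (fun s i => colimit.ι_desc _ _)
        (fun s m' hm => (colimit.isColimit D).uniq ⟨s.pt, Discrete.natTrans fun j => s.inj j.as⟩ m'
          fun ⟨j⟩ => hm j))
    haveI : ∀ i, Injective ((I i).X m) := fun i => hinj i m
    exact isAcyclicFor_sigma ι _ (fun i => (I i).X m) hc
  let α : D ⋙ Ψ ≅ (D ⋙ qX ⋙ DerivedCategory.Qh) ⋙ DCoh.RpushEt X f :=
    NatIso.ofComponents (fun i => @asIso _ _ (Ψ.obj (D.obj i))
      ((DCoh.RpushEt X f).obj ((qX ⋙ DerivedCategory.Qh).obj (D.obj i))) (η.app (D.obj i)) (hηI i))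
      (fun a => η.naturality (D.map a))
  exact IsColimit.equivOfNatIsoOfIso α (Ψ.mapCocone (colimit.cocone D))
    ((DCoh.RpushEt X f).mapCocone ((qX ⋙ DerivedCategory.Qh).mapCocone (colimit.cocone D)))
    (Cocone.ext (@asIso _ _ (Ψ.obj (colimit D))
      ((DCoh.RpushEt X f).obj ((qX ⋙ DerivedCategory.Qh).obj (colimit D))) (η.app (colimit D)) hηc) fun i => by
      show (α.inv.app i ≫ Ψ.map (colimit.ι D i)) ≫ η.app (colimit D) =
        (DCoh.RpushEt X f).map ((qX ⋙ DerivedCategory.Qh).map (colimit.ι D i))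
      rw [Category.assoc, η.naturality (colimit.ι D i)]
      exact IsIso.inv_hom_id_assoc (η.app (D.obj i)) _)
    (isColimitOfPreserves Ψ (colimit.isColimit D))
where
  exists_injective_model (M : DCoh.DEt X) : ∃ I : CochainComplex (EtCoh.Ab X) ℤ, I.IsKInjective ∧
      (∀ n, Injective (I.X n)) ∧
        Nonempty (DerivedCategory.Qh.obj ((HomotopyCategory.quotient _ (ComplexShape.up ℤ)).obj I) ≅ M) := by
    haveI : IsGrothendieckAbelian.{u + 1} (EtCoh.Ab X) := inferInstance
    obtain ⟨I, s, hI, hs, -, hinj⟩ := KInj.exists_isKInjective_resolution (DerivedCategory.Q.objPreimage M)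
    haveI := hs
    exact ⟨I, hI, hinj, ⟨(DerivedCategory.quotientCompQhIso _).app I ≪≫
      (asIso (DerivedCategory.Q.map s)).symm ≪≫ DerivedCategory.Q.objObjPreimageIso M⟩⟩

end Groth.Agent.RpushSumLib
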