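import Groth.Agent.KInj.Derived
import Groth.Agent.KInj.Products

/-!
# Coproducts: functors preserving filtered colimits, and the derived category
-/

set_option autoImplicit false
set_option linter.style.haveILetI false
set_option linter.unusedSectionVars false

universe t w v u v' u'

open CategoryTheory CategoryTheory.Limits CoproductsFromFiniteFiltered

noncomputable section

namespace Groth.Agent.RpushSumLib

section Finset

variable {C : Type u} [Category.{v} C] [Preadditive C] [HasFiniteBiproducts C]
  {D : Type u'} [Category.{v'} D] [Preadditive D]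

/-- An additive functor preserving filtered colimits indexed by finite subsets preserves coproducts. -/
theorem preservesColimitsOfShape_discrete (ι : Type t) (F : C ⥤ D) [F.Additive]
    [HasColimitsOfShape (Finset (Discrete ι)) C] [PreservesColimitsOfShape (Finset (Discrete ι)) F] :
    PreservesColimitsOfShape (Discrete ι) F := by
  haveI : PreservesFiniteBiproducts F := Functor.preservesFiniteBiproductsOfAdditive F
  suffices h : ∀ f : ι → C, PreservesColimit (Discrete.functor f) F from
    ⟨fun {K} => haveI := h fun i => K.obj ⟨i⟩; preservesColimit_of_iso_diagram F Discrete.natIsoFunctor.symm⟩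
  intro f
  haveI : ∀ S : Finset (Discrete ι), PreservesColimitsOfShape (Discrete {x // x ∈ S}) F := fun S =>
    haveI : PreservesColimitsOfShape (Discrete (Fin (Nat.card {x // x ∈ S}))) F :=
      preservesCoproductsOfShape_of_preservesBiproductsOfShape F
    preservesColimitsOfShape_of_equiv (Discrete.equivalence (Finite.equivFin {x // x ∈ S}).symm) F
  haveI : HasCoproduct f := ⟨⟨liftToFinsetColimitCocone (Discrete.functor f)⟩⟩
  refine preservesColimit_of_preserves_colimit_cocone (coproductIsCoproduct f) ?_
  refine (isColimitMapCoconeCofanMkEquiv F f (Sigma.ι f)).symm ?_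
  let h₁ := isColimitOfPreserves F (isColimitFiniteSubproductsCocone f)
  let hS : ∀ S : Finset (Discrete ι), IsColimit (Cofan.mk (f := fun x : {x // x ∈ S} => F.obj (f x.1.as))
      (F.obj ((liftToFinsetObj (Discrete.functor f)).obj S))
      (fun x => F.map (Sigma.ι (fun x : {x // x ∈ S} => (Discrete.functor f).obj x.1) x))) := fun S =>
    isColimitOfHasCoproductOfPreservesColimit F (fun x : {x // x ∈ S} => (Discrete.functor f).obj x.1)
  have hnat : ∀ (s : Cofan fun j => F.obj (f j)) (S T : Finset (Discrete ι)) (m : S ⟶ T),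
      F.map ((liftToFinsetObj (Discrete.functor f)).map m) ≫ Cofan.IsColimit.desc (hS T) (fun x => s.inj x.1.as) =
        Cofan.IsColimit.desc (hS S) fun x => s.inj x.1.as := fun s S T m => by
    refine Cofan.IsColimit.hom_ext (hS S) _ _ fun x => ?_
    refine Eq.trans ?_ (Cofan.IsColimit.fac (hS S) (fun x => s.inj x.1.as) x).symm
    refine (Category.assoc _ _ _).symm.trans ?_
    rw [cofan_mk_inj]
    refine (congrArg (· ≫ _) ((F.map_comp _ _).symm.trans (congrArg F.map (?_ : _ =
      Sigma.ι (fun x : {x // x ∈ T} => (Discrete.functor f).obj x.1) ⟨x.1, leOfHom m x.2⟩)))).trans ?_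
    · simp [liftToFinsetObj]
    · exact Cofan.IsColimit.fac (hS T) (fun x => s.inj x.1.as) ⟨x.1, leOfHom m x.2⟩
  let sc : (Cofan fun j => F.obj (f j)) → Cocone (liftToFinsetObj (Discrete.functor f) ⋙ F) := fun s =>
    { pt := s.pt
      ι := { app := fun S => Cofan.IsColimit.desc (hS S) fun x => s.inj x.1.as
             naturality := fun S T m => (hnat s S T m).trans (Category.comp_id _).symm } }
  refine Cofan.IsColimit.mk _ (fun s => h₁.desc (sc s)) (fun s i => ?_) (fun s m hm => ?_)
  · have h := h₁.fac (sc s) {⟨i⟩}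
    have h2 := congrArg (F.map (Sigma.ι (fun x : {x // x ∈ ({⟨i⟩} : Finset (Discrete ι))} =>
      (Discrete.functor f).obj x.1) ⟨⟨i⟩, Finset.mem_singleton_self _⟩) ≫ ·) h
    refine Eq.trans ?_ (h2.trans (Cofan.IsColimit.fac (hS _) (fun x => s.inj x.1.as) _))
    refine Eq.trans ?_ (Category.assoc _ _ _)
    refine congrArg (· ≫ _) ?_
    rw [cofan_mk_inj, Functor.mapCocone_ι_app]
    refine Eq.trans (congrArg F.map ?_) (F.map_comp _ _)
    exact (Sigma.ι_desc (fun s : {x // x ∈ ({⟨i⟩} : Finset (Discrete ι))} => Sigma.ι f s.1.as) ⟨⟨i⟩, Finset.mem_singleton_self _⟩).symm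
  · refine h₁.hom_ext fun S => ?_
    refine Eq.trans ?_ (h₁.fac (sc s) S).symm
    refine Cofan.IsColimit.hom_ext (hS S) _ _ fun x => ?_
    refine Eq.trans ?_ (Cofan.IsColimit.fac (hS S) (fun x => s.inj x.1.as) x).symm
    refine Eq.trans ?_ (hm x.1.as)
    refine (Category.assoc _ _ _).symm.trans (congrArg (· ≫ m) ?_)
    rw [cofan_mk_inj, cofan_mk_inj, Functor.mapCocone_ι_app]
    refine (F.map_comp _ _).symm.trans (congrArg F.map ?_)
    exact Sigma.ι_desc (fun s : {x // x ∈ S} => Sigma.ι f s.1.as) x

end Finset

section Derived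

variable (V : Type u) [Category.{v} V] [Preadditive V] (T : Type t)
  [HasCoproductsOfShape T V]

/-- The passage to the homotopy category preserves coproducts. -/
theorem preservesCoproducts_quotient :
    PreservesColimitsOfShape (Discrete T) (HomotopyCategory.quotient V (ComplexShape.up ℤ)) := by
  let q := HomotopyCategory.quotient V (ComplexShape.up ℤ)
  refine ⟨fun {K} => ⟨fun {c} hc => ⟨?_⟩⟩⟩
  let c' : Cofan fun t : T => K.obj ⟨t⟩ := Cofan.mk c.pt fun t => c.ι.app ⟨t⟩
  have hc' : IsColimit c' := Cofan.IsColimit.mk _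
    (fun s => hc.desc ⟨s.pt, Discrete.natTrans fun j => s.inj j.as⟩)
    (fun s t => hc.fac ⟨s.pt, Discrete.natTrans fun j => s.inj j.as⟩ ⟨t⟩)
    (fun s m hm => hc.uniq ⟨s.pt, Discrete.natTrans fun j => s.inj j.as⟩ m fun ⟨j⟩ => hm j)
  refine IsColimit.ofExistsUnique fun s => ?_
  choose g hg using fun t : T => q.map_surjective (s.ι.app ⟨t⟩)
  refine ⟨q.map (Cofan.IsColimit.desc hc' g), fun ⟨t⟩ => ?_, fun m hm => ?_⟩
  · refine (q.map_comp _ _).symm.trans ((congrArg q.map ?_).trans (hg t))
    exact Cofan.IsColimit.fac hc' g t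
  · obtain ⟨m, rfl⟩ := q.map_surjective m
    obtain ⟨H⟩ := KInj.homotopic_zero_of_coproduct hc' ((show c'.pt ⟶ s.pt.as from m) - Cofan.IsColimit.desc hc' g) fun t => by
      refine ⟨HomotopyCategory.homotopyOfEq _ _ ?_⟩
      rw [Functor.map_zero, Preadditive.comp_sub, Functor.map_sub, sub_eq_zero]
      refine (q.map_comp _ _).trans ((hm ⟨t⟩).trans ((hg t).symm.trans (congrArg q.map ?_)))
      exact (Cofan.IsColimit.fac hc' g t).symm
    have := HomotopyCategory.eq_of_homotopy _ _ H
    rwa [Functor.map_zero, Functor.map_sub, sub_eq_zero] at this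

variable {A : Type u} [Category.{v} A] [Abelian A] [HasDerivedCategory.{w} A] [HasCoproductsOfShape T A]

/-- The localization functor from complexes preserves coproducts if K-injective resolutions exist. -/
theorem preservesCoproducts_quotientQh
    (hres : ∀ K : CochainComplex A ℤ, ∃ (I : CochainComplex A ℤ) (f : K ⟶ I), I.IsKInjective ∧ QuasiIso f) :
    PreservesColimitsOfShape (Discrete T)
      (HomotopyCategory.quotient A (ComplexShape.up ℤ) ⋙ DerivedCategory.Qh) := by
  haveI := preservesCoproducts_quotient A T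
  haveI : PreservesColimitsOfShape (Discrete T) (DerivedCategory.Qh (C := A)) :=
    (KInj.qhAdjunction hres).leftAdjoint_preservesColimits.preservesColimitsOfShape
  infer_instance

end Derived

end Groth.Agent.RpushSumLib
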