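import Groth.Agent.RpushSumLib.Gen
import Groth.Agent.RpushTorsLib.Basic
import Groth.Agent.CohColim.EtQC
import Groth.Agent.CohColim.EtSections
import Groth.Agent.BoundedCdLib
import Groth.Agent.FLCLib.Ops
import Groth.Prelude.Def_DCoh2

/-!
# Sections over quasi-compact quasi-separated etale schemes: acyclicity and direct sums
-/

set_option autoImplicit false
set_option backward.isDefEq.respectTransparency false
set_option backward.isDefEq.respectTransparency.types false
set_option linter.style.haveILetI false
set_option linter.unusedSectionVars false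
set_option maxHeartbeats 1000000
set_option synthInstance.maxHeartbeats 400000

universe u

open CategoryTheory CategoryTheory.Limits AlgebraicGeometry Opposite CategoryTheory.Abelian
open Groth.Agent.RpushTorsLib Groth.Agent.SpSeqLib

noncomputable section

namespace Groth.Agent.RpushSumLib

variable {X : Scheme.{u}}

/-- Sections over an etale scheme. -/
abbrev secF (W : X.Etale) : EtCoh.Ab X ⥤ AddCommGrpCat.{u + 1} :=
  sheafToPresheaf X.smallEtaleTopology AddCommGrpCat.{u + 1} ⋙ (evaluation X.Etaleᵒᵖ AddCommGrpCat.{u + 1}).obj (op W)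

instance preservesFiniteLimits_secF (W : X.Etale) : PreservesFiniteLimits (secF W) :=
  comp_preservesFiniteLimits _ _

instance additive_secF (W : X.Etale) : (secF W).Additive :=
  Functor.additive_of_preserves_binary_products _

/-- A cocycle is a coboundary if the cohomology of the restriction vanishes. -/
theorem exists_coboundary {F : EtCoh.Ab X} (R : InjectiveResolution F) (p : ℕ) (W : X.Etale)
    (hH : Subsingleton (EtCoh.H W.left ((EtCoh.pull W.hom).obj F) (p + 1)))
    (z : EtCoh.sect (R.cocomplex.X (p + 1)) W)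
    (hz : (R.cocomplex.d (p + 1) (p + 1 + 1)).hom.app (op W) z = 0) :
    ∃ w : EtCoh.sect (R.cocomplex.X p) W, (R.cocomplex.d p (p + 1)).hom.app (op W) w = z := by
  let Z : Scheme.{u} := W.left
  let j : Z ⟶ X := W.hom
  haveI : AlgebraicGeometry.Etale j := W.prop
  haveI : EtShriek.JCont j := EtJCont.jCont j
  let Φ := EtShriek.restrAlong j
  haveI : PreservesFiniteLimits Φ :=
    haveI : Φ.IsRightAdjoint := (EtShriek.extZeroAdj j).isRightAdjoint
    inferInstance
  haveI : PreservesFiniteColimits Φ := by
    haveI : PreservesColimitsOfSize.{0, 0} Φ := (EtPtsLib.restrPushAdj j).leftAdjoint_preservesColimits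
    exact PreservesColimitsOfSize.preservesFiniteColimits _
  haveI : Φ.Additive := Functor.additive_of_preserves_binary_products Φ
  let R' : InjectiveResolution (Φ.obj F) :=
    { cocomplex := (Φ.mapHomologicalComplex (ComplexShape.up ℕ)).obj R.cocomplex
      injective := fun i => haveI := S17614.injective_pull j (R.cocomplex.X i)
        Injective.of_iso ((EtPtsLib.pullIsoRestr j).app _) inferInstance
      ι := (HomologicalComplex.singleMapHomologicalComplex Φ (ComplexShape.up ℕ) 0).inv.app F ≫
        (Φ.mapHomologicalComplex (ComplexShape.up ℕ)).map R.ι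
      quasiIso := inferInstance }
  have hsub : Subsingleton (EtCoh.H Z (Φ.obj F) (p + 1)) := by
    haveI : Subsingleton (EtCoh.H Z ((EtCoh.pull j).obj F) (p + 1)) := hH
    refine (Function.RightInverse.injective
      (g := Sheaf.H.map ((EtPtsLib.pullIsoRestr j).hom.app F) (p + 1))
      (f := Sheaf.H.map ((EtPtsLib.pullIsoRestr j).inv.app F) (p + 1)) fun x => ?_).subsingleton
    rw [← Sheaf.H.map_comp_apply, Iso.inv_hom_id_app, Sheaf.H.map_id_apply]
  let V := (EtShriek.compEtale j).obj (EtCoh.top Z)
  let e : V ⟶ W := MorphismProperty.Over.homMk (𝟙 Z) rfl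
  let e' : W ⟶ V := MorphismProperty.Over.homMk (𝟙 Z) ((Category.id_comp _).trans (Category.id_comp _))
  have hee' : e' ≫ e = 𝟙 W := MorphismProperty.Over.Hom.ext (Category.id_comp _)
  let t : EtCoh.sect (Φ.obj (R.cocomplex.X (p + 1))) (EtCoh.top Z) := (R.cocomplex.X (p + 1)).obj.map e.op z
  let φ : EtCoh.const Z ℤ ⟶ R'.cocomplex.X (p + 1) := secHom (Φ.obj (R.cocomplex.X (p + 1))) t
  have hφ : φ ≫ R'.cocomplex.d (p + 1) (p + 1 + 1) = 0 := by
    show secHom _ t ≫ Φ.map (R.cocomplex.d (p + 1) (p + 1 + 1)) = 0
    rw [← secHom_natural]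
    refine (congrArg (secHom _) ?_).trans (map_zero _)
    show (R.cocomplex.d (p + 1) (p + 1 + 1)).hom.app (op V) ((R.cocomplex.X (p + 1)).obj.map e.op z) = 0
    rw [NatTrans.naturality_apply (R.cocomplex.d (p + 1) (p + 1 + 1)).hom e.op z, hz, map_zero]
  have hx : R'.extMk φ (p + 1 + 1) rfl hφ = 0 := hsub.elim _ _
  obtain ⟨g, hg⟩ := (R'.extMk_eq_zero_iff φ (p + 1 + 1) rfl _ p rfl).1 hx
  let w₀ := (secHom (Φ.obj (R.cocomplex.X p))).symm g
  have hw : (R.cocomplex.d p (p + 1)).hom.app (op V) w₀ = t := (secHom _).injective (by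
    refine (secHom_natural (Φ.map (R.cocomplex.d p (p + 1))) w₀).trans ?_
    rw [AddEquiv.apply_symm_apply]
    exact hg)
  refine ⟨(R.cocomplex.X p).obj.map e'.op w₀, ?_⟩
  rw [NatTrans.naturality_apply (R.cocomplex.d p (p + 1)).hom e'.op w₀]
  refine (congrArg _ hw).trans ?_
  show (R.cocomplex.X (p + 1)).obj.map e'.op ((R.cocomplex.X (p + 1)).obj.map e.op z) = z
  rw [← ConcreteCategory.comp_apply, ← Functor.map_comp, ← op_comp, hee', op_id, CategoryTheory.Functor.map_id]
  rfl

/-- The derived functors of sections vanish where cohomology does. -/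
theorem isZero_rightDerived_secF (W : X.Etale) (p : ℕ) (F : EtCoh.Ab X)
    (hH : Subsingleton (EtCoh.H W.left ((EtCoh.pull W.hom).obj F) (p + 1))) :
    IsZero (((secF W).rightDerived (p + 1)).obj F) := by
  let R := injectiveResolution F
  refine IsZero.of_iso ?_ (R.isoRightDerivedObj (secF W) (p + 1))
  show IsZero ((((secF W).mapHomologicalComplex (ComplexShape.up ℕ)).obj R.cocomplex).homology (p + 1))
  rw [← HomologicalComplex.exactAt_iff_isZero_homology,
    HomologicalComplex.exactAt_iff' _ p (p + 1) (p + 1 + 1) (by simp) (by simp),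
    ShortComplex.ab_exact_iff]
  intro z hz
  exact exists_coboundary R p W hH z hz

/-- An exact complex of acyclic sheaves has exact complexes of sections. -/
theorem exactAt_secF (W : X.Etale)
    (hd : ∃ d : ℕ, ∀ (F : EtCoh.Ab W.left) (q : ℕ), d < q → Subsingleton (EtCoh.H W.left F q))
    (L : CochainComplex (EtCoh.Ab X) ℤ) (hL : ∀ m, IsAcyclicFor (secF W) (L.X m))
    (hexact : ∀ m, L.ExactAt m) (m : ℤ) :
    (((secF W).mapHomologicalComplex (ComplexShape.up ℤ)).obj L).ExactAt m := by
  obtain ⟨d, hd⟩ := hd
  exact BoundedCdLib.exactAt_map (S := secF W) (n := d + 1)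
    (fun F => isZero_rightDerived_secF W d F (hd _ _ (by omega))) L hL hexact m

variable (ι : Type (u + 1))

/-- Sections over qcqs etale schemes preserve direct sums. -/
theorem preservesCoproducts_secF (W : X.Etale) [CompactSpace W.left] [QuasiSeparatedSpace W.left] :
    PreservesColimitsOfShape (Discrete ι) (secF W) := by
  haveI := CohColim.preserves_sectionsAb X (Finset (Discrete ι)) W
  exact preservesColimitsOfShape_discrete ι (secF W)

/-- Direct sums of injective sheaves are acyclic for sections over qcqs etale schemes. -/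
theorem isAcyclicFor_sigma (W : X.Etale) [CompactSpace W.left] [QuasiSeparatedSpace W.left]
    (I : ι → EtCoh.Ab X) [∀ i, Injective (I i)] {c : Cofan I} (hc : IsColimit c) :
    IsAcyclicFor (secF W) c.pt := by
  haveI : AlgebraicGeometry.Etale W.hom := W.prop
  haveI : CompactSpace ↥((𝟭 Scheme.{u}).obj W.left) := ‹CompactSpace W.left›
  haveI : QuasiSeparatedSpace ↥((𝟭 Scheme.{u}).obj W.left) := ‹QuasiSeparatedSpace W.left›
  intro p
  refine isZero_rightDerived_secF W p c.pt ?_
  haveI : (EtCoh.pull W.hom).Additive := (EtCoh.pullPushAdj W.hom).left_adjoint_additive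
  haveI : PreservesColimitsOfShape (Discrete ι) (EtCoh.pull W.hom) :=
    (EtCoh.pullPushAdj W.hom).leftAdjoint_preservesColimits.preservesColimitsOfShape
  haveI := CohColim.preserves_HF (X := W.left) (p + 1) (Finset (Discrete ι))
  haveI := preservesColimitsOfShape_discrete ι (EtCoh.HF W.left (p + 1))
  let G := EtCoh.pull W.hom ⋙ EtCoh.HF W.left (p + 1)
  have h := isColimitOfPreserves G hc
  have hz : IsZero (G.obj c.pt) := by
    rw [IsZero.iff_id_eq_zero]
    refine h.hom_ext fun i => IsZero.eq_of_src ?_ _ _
    haveI := S17614.injective_pull W.hom (I i.as)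
    haveI : Subsingleton (EtCoh.H W.left ((EtCoh.pull W.hom).obj (I i.as)) (p + 1)) :=
      Abelian.Ext.subsingleton_of_injective _ _ p
    exact @AddCommGrpCat.isZero_of_subsingleton _ this
  exact AddCommGrpCat.subsingleton_of_isZero hz

end Groth.Agent.RpushSumLib
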